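import Cfsg.Agent.Lib.H28.HeM.CertS.Run
import Cfsg.Agent.Lib.H28.HeM.CertS.Rows
import Cfsg.Agent.Lib.H28.HeM.CertGlue

set_option autoImplicit false
set_option maxRecDepth 100000

/-!
# The group `3.S₇` inside the Held group: an upper bound (helper28)

A group generated by involutions `a, b, c, d, e` satisfying the relations of the Held
presentation among them has order at most `15120`: a complete coset enumeration over `⟨cd⟩`.
-/

namespace Cfsg.Agent.Lib.H28.HeM.CertS

open Cfsg.Agent.Lib.H17.CosetCert Cfsg.Agent.Lib.H28.CosetCertD Cfsg.Agent.Lib.H28.HeM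

variable {G : Type*} [Group G]

theorem card_le (a b c d e : G)
    (ha : a * a = 1) (hb : b * b = 1) (hc : c * c = 1) (hd : d * d = 1) (he : e * e = 1)
    (hab : (a * b) ^ 4 = 1) (hac : (a * c) ^ 2 = 1) (had : (a * d) ^ 2 = 1) (hae : (a * e) ^ 2 = 1)
    (hbc : (b * c) ^ 3 = 1) (hbd : (b * d) ^ 2 = 1) (hbe : (b * e) ^ 2 = 1)
    (hcd : (c * d) ^ 10 = 1) (hce : (c * e) ^ 2 = 1) (hde : (d * e) ^ 3 = 1)
    (h1 : e = (a * b * c) ^ 3) (h2 : a = (c * d) ^ 5)
    (hgen : Subgroup.closure ({a, b, c, d, e} : Set G) = ⊤) : Nat.card G ≤ 15120 := by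
  set γ : ℕ → G := fun x => [a, b, c, d, e].getD x 1 with hγ
  have hai : a⁻¹ = a := inv_eq_of_mul_eq_one_left ha
  have hbi : b⁻¹ = b := inv_eq_of_mul_eq_one_left hb
  have hci : c⁻¹ = c := inv_eq_of_mul_eq_one_left hc
  have hdi : d⁻¹ = d := inv_eq_of_mul_eq_one_left hd
  have hei : e⁻¹ = e := inv_eq_of_mul_eq_one_left he
  have hrel : ∀ w ∈ relL, (w.map γ).prod = 1 := by
    have k16 : e * ((a * b * c) ^ 3)⁻¹ = 1 := by rw [← h1]; exact mul_inv_cancel e
    have k17 : a * ((c * d) ^ 5)⁻¹ = 1 := by rw [← h2]; exact mul_inv_cancel a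
    simp only [pow_succ, pow_zero, one_mul, mul_assoc] at hab hac had hae hbc hbd hbe hcd hce hde
    simp only [pow_succ, pow_zero, one_mul, mul_assoc, mul_inv_rev, hai, hbi, hci, hdi] at k16 k17
    intro w hw
    simp only [relL, List.mem_cons, List.not_mem_nil, or_false] at hw
    rcases hw with rfl | rfl | rfl | rfl | rfl | rfl | rfl | rfl | rfl | rfl | rfl | rfl | rfl |
        rfl | rfl | rfl | rfl | rfl <;>
      simp only [hγ, List.map_cons, List.map_nil, List.prod_cons, List.prod_nil, List.getD_cons_zero,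
        List.getD_cons_succ, mul_one]
    · exact ha
    · exact hb
    · exact hc
    · exact hd
    · exact he
    · exact hab
    · exact hac
    · exact had
    · exact hae
    · exact hbc
    · exact hbd
    · exact hbe
    · exact hcd
    · exact hce
    · exact hde
    · exact k16
    · exact k17
  set E : Subgroup G := Subgroup.zpowers (c * d) with hE
  have hsub : ∀ w ∈ subL, (w.map γ).prod ∈ E := by
    intro w hw
    simp only [subL, List.mem_cons, List.not_mem_nil, or_false] at hw
    subst hw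
    simp only [hγ, List.map_cons, List.map_nil, List.prod_cons, List.prod_nil, List.getD_cons_zero,
      List.getD_cons_succ, mul_one]
    exact Subgroup.mem_zpowers _
  have hOK := CertGlue.wordsOK words relL subL words_spec γ hrel E hsub
  have hI := run (fun x => (γ x)⁻¹) (((1 : G) : G ⧸ E)) hOK
  have hgen' : Subgroup.closure {g : G | ∃ x < 5, g = (fun x => (γ x)⁻¹) x} = ⊤ := by
    rw [eq_top_iff, ← hgen, Subgroup.closure_le]
    intro y hy
    simp only [Set.mem_insert_iff, Set.mem_singleton_iff] at hy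
    have key : ∀ x < 5, γ x ∈ Subgroup.closure {g : G | ∃ x < 5, g = (fun x => (γ x)⁻¹) x} := by
      intro x hx
      have : (γ x)⁻¹ ∈ Subgroup.closure {g : G | ∃ x < 5, g = (fun x => (γ x)⁻¹) x} :=
        Subgroup.subset_closure ⟨x, hx, rfl⟩
      simpa using Subgroup.inv_mem _ this
    rcases hy with rfl | rfl | rfl | rfl | rfl
    · exact key 0 (by norm_num)
    · exact key 1 (by norm_num)
    · exact key 2 (by norm_num)
    · exact key 3 (by norm_num)
    · exact key 4 (by norm_num)
  obtain ⟨hfin, hcard⟩ := card_leD F 5 16777216 (fun x => (γ x)⁻¹) (((1 : G) : G ⧸ E)) 7667 1539 hI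
    rows mask mask_ok mask_zero rows_ok hgen'
  rw [rows_length] at hcard
  have hEcard : Nat.card E ≤ 10 := by
    rw [hE, Nat.card_zpowers]
    exact orderOf_le_of_pow_eq_one (by norm_num) hcd
  have hmul := Subgroup.card_eq_card_quotient_mul_card_subgroup E
  calc Nat.card G = Nat.card (G ⧸ E) * Nat.card E := hmul
    _ ≤ 1512 * 10 := Nat.mul_le_mul hcard hEcard
    _ = 15120 := by norm_num

end Cfsg.Agent.Lib.H28.HeM.CertS
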