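import Cfsg.Agent.Lib.H28.HeM.CertS.StepsA

set_option autoImplicit false
set_option maxRecDepth 100000

/-! # Running the certificate: the path words fix the base point (generated) -/

namespace Cfsg.Agent.Lib.H28.HeM.CertS

open Cfsg.Agent.Lib.H17.CosetCert Cfsg.Agent.Lib.H28.CosetCertD

variable {G Q : Type*} [Group G] [MulAction G Q] (γ : ℕ → G) (q0 : Q)

theorem run (hOK : WordsOK γ q0 words) : Inv F 5 γ q0 7667 1539 := by
  have h0 := inv_zero F 5 γ q0
  have h1 := checkSteps_soundD F 5 16777216 γ q0 words hOK steps0 0 1 552 h0 chk0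
  rw [len0] at h1
  have h2 := checkSteps_soundD F 5 16777216 γ q0 words hOK steps1 2000 552 1022 h1 chk1
  rw [len1] at h2
  have h3 := checkSteps_soundD F 5 16777216 γ q0 words hOK steps2 4000 1022 1438 h2 chk2
  rw [len2] at h3
  have h4 := checkSteps_soundD F 5 16777216 γ q0 words hOK steps3 6000 1438 1539 h3 chk3
  rw [len3] at h4
  exact h4

end Cfsg.Agent.Lib.H28.HeM.CertS
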